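import Mathlib.RingTheory.AdicCompletion.Algebra
import Mathlib.RingTheory.AdicCompletion.Completeness

/-! Completions of algebras agree when the truncations agree. -/

set_option autoImplicit false
universe u

namespace Groth.Agent.Algebraize7

/-- An algebra map inducing bijections modulo all powers induces an isomorphism of completions. -/
theorem nonempty_completion_algEquiv {A B S : Type u} [CommRing A] [CommRing B] [CommRing S] [Algebra A B]
    [Algebra A S] (I : Ideal B) (K : Ideal S) (β : B →ₐ[A] S) (hle : ∀ n, I ^ n ≤ (K ^ n).comap β)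
    (hbij : ∀ n, Function.Bijective (Ideal.quotientMapₐ (K ^ n) β (hle n))) :
    Nonempty (AdicCompletion I B ≃ₐ[A] AdicCompletion K S) := by
  let e : ∀ n, (B ⧸ I ^ n) ≃ₐ[A] (S ⧸ K ^ n) := fun n => AlgEquiv.ofBijective _ (hbij n)
  have he : ∀ {m n : ℕ} (h : m ≤ n) (x : B ⧸ I ^ n),
      Ideal.Quotient.factor (Ideal.pow_le_pow_right (I := K) h) (e n x) =
        e m (Ideal.Quotient.factor (Ideal.pow_le_pow_right (I := I) h) x) := by
    intro m n h x
    obtain ⟨x, rfl⟩ := Ideal.Quotient.mk_surjective x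
    rfl
  let f : ∀ n, AdicCompletion I B →ₐ[A] S ⧸ K ^ n := fun n =>
    (e n).toAlgHom.comp ((AdicCompletion.evalₐ I n).restrictScalars A)
  have hf : ∀ {m n : ℕ} (h : m ≤ n),
      (Ideal.Quotient.factorₐ A (Ideal.pow_le_pow_right h)).comp (f n) = f m := by
    intro m n h
    refine AlgHom.ext fun x => ?_
    obtain ⟨a, rfl⟩ := AdicCompletion.mk_surjective I B x
    show Ideal.Quotient.factor (Ideal.pow_le_pow_right (I := K) h) (e n (AdicCompletion.evalₐ I n (AdicCompletion.mk I B a))) =
      e m (AdicCompletion.evalₐ I m (AdicCompletion.mk I B a))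
    rw [he h, AdicCompletion.evalₐ_mk, AdicCompletion.evalₐ_mk, Ideal.Quotient.factor_mk]
    congr 1
    exact (AdicCompletion.Ideal.mk_eq_mk I h a)
  let g : ∀ n, AdicCompletion K S →ₐ[A] B ⧸ I ^ n := fun n =>
    (e n).symm.toAlgHom.comp ((AdicCompletion.evalₐ K n).restrictScalars A)
  have hg : ∀ {m n : ℕ} (h : m ≤ n),
      (Ideal.Quotient.factorₐ A (Ideal.pow_le_pow_right h)).comp (g n) = g m := by
    intro m n h
    refine AlgHom.ext fun x => ?_
    obtain ⟨a, rfl⟩ := AdicCompletion.mk_surjective K S x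
    show Ideal.Quotient.factor (Ideal.pow_le_pow_right (I := I) h) ((e n).symm (AdicCompletion.evalₐ K n (AdicCompletion.mk K S a))) =
      (e m).symm (AdicCompletion.evalₐ K m (AdicCompletion.mk K S a))
    refine (e m).injective ?_
    rw [← he h, AlgEquiv.apply_symm_apply, AlgEquiv.apply_symm_apply, AdicCompletion.evalₐ_mk, AdicCompletion.evalₐ_mk,
      Ideal.Quotient.factor_mk]
    exact (AdicCompletion.Ideal.mk_eq_mk K h a)
  refine ⟨AlgEquiv.ofAlgHom (AdicCompletion.liftAlgHom K f hf) (AdicCompletion.liftAlgHom I g hg) ?_ ?_⟩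
  · refine AlgHom.ext fun x => AdicCompletion.ext_evalₐ fun n => ?_
    simp [f, g]
  · refine AlgHom.ext fun x => AdicCompletion.ext_evalₐ fun n => ?_
    simp [f, g]

end Groth.Agent.Algebraize7
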