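import Groth.Agent.Algebraize7.CompletionEquiv
import Groth.Agent.Hensel.NoethPair
import Groth.Agent.Hensel.Hfp

/-! Quotients of henselisations are algebraisable. -/

set_option autoImplicit false
universe u

namespace Groth.Agent.Algebraize7

theorem exists_finiteType {A : Type u} [CommRing A] [IsNoetherianRing A] (I : Ideal A) {C : Type u} [CommRing C]
    [Algebra A C] [Algebra.FiniteType A C] {Ch : Type u} [CommRing Ch] [Algebra C Ch] [Algebra A Ch]
    [IsScalarTower A C Ch] (hCh : Hens2.IsPairHenselization C (I.map (algebraMap A C)) Ch) (J : Ideal Ch) :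
    ∃ (B : Type u) (_ : CommRing B) (_ : Algebra A B), Algebra.FiniteType A B ∧
      Nonempty (AdicCompletion (I.map (algebraMap A B)) B ≃ₐ[A]
        AdicCompletion (I.map (algebraMap A (Ch ⧸ J))) (Ch ⧸ J)) := by
  classical
  haveI : IsNoetherianRing C := Algebra.FiniteType.isNoetherianRing A C
  haveI : Algebra.FinitePresentation A C := Algebra.FinitePresentation.of_finiteType.mp inferInstance
  haveI : IsNoetherianRing Ch := Hensel.isNoetherianRing_of_isPairHenselization _ hCh
  obtain ⟨s, hs⟩ := IsNoetherian.noetherian J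
  obtain ⟨U, _, _, _, _, hfp, hU, hsU⟩ := Hensel.exists_model_finset I hCh s
  choose v hv using hsU
  let φ : U →ₐ[A] Ch := IsScalarTower.toAlgHom A U Ch
  let JU : Ideal U := Ideal.span (Set.range fun x : s => v x.1 x.2)
  have hJU : JU.map φ = J := by
    refine le_antisymm ?_ ?_
    · rw [Ideal.map_span, Ideal.span_le]
      rintro _ ⟨_, ⟨x, rfl⟩, rfl⟩
      show algebraMap U Ch (v x.1 x.2) ∈ J
      rw [hv, ← hs]
      exact Submodule.subset_span x.2
    · rw [← hs, Submodule.span_le]
      intro x hx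
      rw [← hv x hx]
      exact Ideal.mem_map_of_mem φ (Ideal.subset_span ⟨⟨x, hx⟩, rfl⟩)
  let B := U ⧸ JU
  have hB : Algebra.FiniteType A B :=
    Algebra.FiniteType.of_surjective (Ideal.Quotient.mkₐ A JU) Ideal.Quotient.mk_surjective
  let β : B →ₐ[A] Ch ⧸ J := Ideal.quotientMapₐ J φ (Ideal.map_le_iff_le_comap.mp hJU.le)
  have hle : ∀ n, (I.map (algebraMap A B)) ^ n ≤ ((I.map (algebraMap A (Ch ⧸ J))) ^ n).comap β := fun n => by
    rw [← Ideal.map_le_iff_le_comap, Ideal.map_pow]
    refine Ideal.pow_right_mono (le_of_eq ?_) n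
    exact (Ideal.map_map (algebraMap A B) (β : B →+* Ch ⧸ J)).trans (congrArg (Ideal.map · I) β.comp_algebraMap)
  have hq : ∀ (n : ℕ) (J' : Ideal U), ((I.map (algebraMap A (U ⧸ J'))) ^ n) =
      ((I.map (algebraMap A U)) ^ n).map (Ideal.Quotient.mk J') := fun n J' => by
    rw [← Ideal.map_pow, ← Ideal.map_pow, Ideal.map_map]; rfl
  have hq' : ∀ n, ((I.map (algebraMap A (Ch ⧸ J))) ^ n) =
      (((I.map (algebraMap A U)) ^ n).map (algebraMap U Ch)).map (Ideal.Quotient.mk J) := fun n => by
    rw [← Ideal.map_pow, ← Ideal.map_pow, Ideal.map_map, Ideal.map_map, RingHom.comp_assoc, ← IsScalarTower.algebraMap_eq A U Ch]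
    rfl
  refine ⟨B, inferInstance, inferInstance, hB, nonempty_completion_algEquiv _ _ β hle fun n => ?_⟩
  have hbij := Hensel.bijective_quotientMap_pow_of_isPairHenselization _ hU n
  let IU := (I.map (algebraMap A U)) ^ n
  constructor
  · refine (injective_iff_map_eq_zero _).mpr fun x hx => ?_
    obtain ⟨x, rfl⟩ := Ideal.Quotient.mk_surjective x
    obtain ⟨u, rfl⟩ := Ideal.Quotient.mk_surjective x
    rw [Ideal.Quotient.eq_zero_iff_mem, hq, Ideal.mem_quotient_iff_mem_sup]
    replace hx : algebraMap U Ch u ∈ IU.map (algebraMap U Ch) ⊔ J := by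
      rw [← Ideal.mem_quotient_iff_mem_sup, ← hq']
      exact Ideal.Quotient.eq_zero_iff_mem.mp hx
    have hx' : algebraMap U Ch u ∈ (IU ⊔ JU).map (algebraMap U Ch) := by
      rw [Ideal.map_sup, show JU.map (algebraMap U Ch) = J from hJU]; exact hx
    have key : ∀ y ∈ (IU ⊔ JU).map (algebraMap U Ch),
        ∃ k ∈ IU ⊔ JU, y - algebraMap U Ch k ∈ IU.map (algebraMap U Ch) := by
      intro y hy
      induction hy using Submodule.span_induction with
      | mem y hy => obtain ⟨k, hk, rfl⟩ := hy; exact ⟨k, hk, by simp⟩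
      | zero => exact ⟨0, zero_mem _, by simp⟩
      | add y y' _ _ h h' =>
        obtain ⟨k, hk, hy⟩ := h
        obtain ⟨k', hk', hy'⟩ := h'
        exact ⟨k + k', add_mem hk hk', by rw [map_add, add_sub_add_comm]; exact add_mem hy hy'⟩
      | smul c y _ h =>
        obtain ⟨k, hk, hy⟩ := h
        obtain ⟨c', hc'⟩ := hbij.2 (Ideal.Quotient.mk _ c)
        obtain ⟨c', rfl⟩ := Ideal.Quotient.mk_surjective c'
        rw [Ideal.quotientMap_mk, eq_comm, Ideal.Quotient.eq] at hc'
        refine ⟨c' * k, Ideal.mul_mem_left _ _ hk, ?_⟩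
        rw [show c • y - algebraMap U Ch (c' * k) =
          c * (y - algebraMap U Ch k) + (c - algebraMap U Ch c') * algebraMap U Ch k by rw [smul_eq_mul, map_mul]; ring]
        exact add_mem (Ideal.mul_mem_left _ _ hy) (Ideal.mul_mem_right _ _ hc')
    obtain ⟨k, hk, huk⟩ := key _ hx'
    rw [← map_sub] at huk
    have h1 : u - k ∈ IU := by
      rw [← Ideal.Quotient.eq_zero_iff_mem]
      refine hbij.1 ?_
      rw [Ideal.quotientMap_mk, map_zero, Ideal.Quotient.eq_zero_iff_mem]
      exact huk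
    simpa using add_mem (show u - k ∈ IU ⊔ JU from Ideal.mem_sup_left h1) hk
  · intro y
    obtain ⟨y, rfl⟩ := Ideal.Quotient.mk_surjective y
    obtain ⟨c, rfl⟩ := Ideal.Quotient.mk_surjective y
    obtain ⟨c', hc'⟩ := hbij.2 (Ideal.Quotient.mk _ c)
    obtain ⟨c', rfl⟩ := Ideal.Quotient.mk_surjective c'
    rw [Ideal.quotientMap_mk, Ideal.Quotient.eq] at hc'
    refine ⟨Ideal.Quotient.mk _ (Ideal.Quotient.mk JU c'), ?_⟩
    refine Ideal.Quotient.eq.mpr ?_
    rw [hq']
    show Ideal.Quotient.mk J (algebraMap U Ch c') - Ideal.Quotient.mk J c ∈ _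
    rw [← map_sub]
    exact Ideal.mem_map_of_mem _ hc'

end Groth.Agent.Algebraize7
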